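import Cfsg.Agent.Helper28.F23L.Data

set_option autoImplicit false

namespace Cfsg.Agent.Helper28.F23L

theorem col_t_0 : Cfsg.Agent.Helper28.ptChunk (Cfsg.Agent.Helper28.colPt Cfsg.Agent.Helper28.C1689.T t_w t_tau) 31671 512 0 = true := by decide +kernel

theorem col_t_1 : Cfsg.Agent.Helper28.ptChunk (Cfsg.Agent.Helper28.colPt Cfsg.Agent.Helper28.C1689.T t_w t_tau) 31671 512 1 = true := by decide +kernel

theorem col_t_2 : Cfsg.Agent.Helper28.ptChunk (Cfsg.Agent.Helper28.colPt Cfsg.Agent.Helper28.C1689.T t_w t_tau) 31671 512 2 = true := by decide +kernel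

theorem col_t_3 : Cfsg.Agent.Helper28.ptChunk (Cfsg.Agent.Helper28.colPt Cfsg.Agent.Helper28.C1689.T t_w t_tau) 31671 512 3 = true := by decide +kernel

theorem col_t_4 : Cfsg.Agent.Helper28.ptChunk (Cfsg.Agent.Helper28.colPt Cfsg.Agent.Helper28.C1689.T t_w t_tau) 31671 512 4 = true := by decide +kernel

theorem col_t_5 : Cfsg.Agent.Helper28.ptChunk (Cfsg.Agent.Helper28.colPt Cfsg.Agent.Helper28.C1689.T t_w t_tau) 31671 512 5 = true := by decide +kernel

theorem col_t_6 : Cfsg.Agent.Helper28.ptChunk (Cfsg.Agent.Helper28.colPt Cfsg.Agent.Helper28.C1689.T t_w t_tau) 31671 512 6 = true := by decide +kernel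

theorem col_t_7 : Cfsg.Agent.Helper28.ptChunk (Cfsg.Agent.Helper28.colPt Cfsg.Agent.Helper28.C1689.T t_w t_tau) 31671 512 7 = true := by decide +kernel

end Cfsg.Agent.Helper28.F23L
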