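import Cfsg.Agent.Helper28.F23L.Data

set_option autoImplicit false

namespace Cfsg.Agent.Helper28.F23L

theorem col_t_24 : Cfsg.Agent.Helper28.ptChunk (Cfsg.Agent.Helper28.colPt Cfsg.Agent.Helper28.C1689.T t_w t_tau) 31671 512 24 = true := by decide +kernel

theorem col_t_25 : Cfsg.Agent.Helper28.ptChunk (Cfsg.Agent.Helper28.colPt Cfsg.Agent.Helper28.C1689.T t_w t_tau) 31671 512 25 = true := by decide +kernel

theorem col_t_26 : Cfsg.Agent.Helper28.ptChunk (Cfsg.Agent.Helper28.colPt Cfsg.Agent.Helper28.C1689.T t_w t_tau) 31671 512 26 = true := by decide +kernel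

theorem col_t_27 : Cfsg.Agent.Helper28.ptChunk (Cfsg.Agent.Helper28.colPt Cfsg.Agent.Helper28.C1689.T t_w t_tau) 31671 512 27 = true := by decide +kernel

theorem col_t_28 : Cfsg.Agent.Helper28.ptChunk (Cfsg.Agent.Helper28.colPt Cfsg.Agent.Helper28.C1689.T t_w t_tau) 31671 512 28 = true := by decide +kernel

theorem col_t_29 : Cfsg.Agent.Helper28.ptChunk (Cfsg.Agent.Helper28.colPt Cfsg.Agent.Helper28.C1689.T t_w t_tau) 31671 512 29 = true := by decide +kernel

theorem col_t_30 : Cfsg.Agent.Helper28.ptChunk (Cfsg.Agent.Helper28.colPt Cfsg.Agent.Helper28.C1689.T t_w t_tau) 31671 512 30 = true := by decide +kernel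

theorem col_t_31 : Cfsg.Agent.Helper28.ptChunk (Cfsg.Agent.Helper28.colPt Cfsg.Agent.Helper28.C1689.T t_w t_tau) 31671 512 31 = true := by decide +kernel

end Cfsg.Agent.Helper28.F23L
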