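import Cfsg.Agent.Helper28.F23L.Data

set_option autoImplicit false

namespace Cfsg.Agent.Helper28.F23L

theorem comm_t_8 : Cfsg.Agent.Helper28.ptChunk (Cfsg.Agent.Helper28.commPt Cfsg.Agent.Helper28.C1689.T t_tau t_ks) 31671 512 8 = true := by decide +kernel

theorem comm_t_9 : Cfsg.Agent.Helper28.ptChunk (Cfsg.Agent.Helper28.commPt Cfsg.Agent.Helper28.C1689.T t_tau t_ks) 31671 512 9 = true := by decide +kernel

theorem comm_t_10 : Cfsg.Agent.Helper28.ptChunk (Cfsg.Agent.Helper28.commPt Cfsg.Agent.Helper28.C1689.T t_tau t_ks) 31671 512 10 = true := by decide +kernel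

theorem comm_t_11 : Cfsg.Agent.Helper28.ptChunk (Cfsg.Agent.Helper28.commPt Cfsg.Agent.Helper28.C1689.T t_tau t_ks) 31671 512 11 = true := by decide +kernel

theorem comm_t_12 : Cfsg.Agent.Helper28.ptChunk (Cfsg.Agent.Helper28.commPt Cfsg.Agent.Helper28.C1689.T t_tau t_ks) 31671 512 12 = true := by decide +kernel

theorem comm_t_13 : Cfsg.Agent.Helper28.ptChunk (Cfsg.Agent.Helper28.commPt Cfsg.Agent.Helper28.C1689.T t_tau t_ks) 31671 512 13 = true := by decide +kernel

theorem comm_t_14 : Cfsg.Agent.Helper28.ptChunk (Cfsg.Agent.Helper28.commPt Cfsg.Agent.Helper28.C1689.T t_tau t_ks) 31671 512 14 = true := by decide +kernel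

theorem comm_t_15 : Cfsg.Agent.Helper28.ptChunk (Cfsg.Agent.Helper28.commPt Cfsg.Agent.Helper28.C1689.T t_tau t_ks) 31671 512 15 = true := by decide +kernel

end Cfsg.Agent.Helper28.F23L
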