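import Cfsg.Agent.Helper28.F23L.Data

set_option autoImplicit false

namespace Cfsg.Agent.Helper28.F23L

theorem comm_t_16 : Cfsg.Agent.Helper28.ptChunk (Cfsg.Agent.Helper28.commPt Cfsg.Agent.Helper28.C1689.T t_tau t_ks) 31671 512 16 = true := by decide +kernel

theorem comm_t_17 : Cfsg.Agent.Helper28.ptChunk (Cfsg.Agent.Helper28.commPt Cfsg.Agent.Helper28.C1689.T t_tau t_ks) 31671 512 17 = true := by decide +kernel

theorem comm_t_18 : Cfsg.Agent.Helper28.ptChunk (Cfsg.Agent.Helper28.commPt Cfsg.Agent.Helper28.C1689.T t_tau t_ks) 31671 512 18 = true := by decide +kernel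

theorem comm_t_19 : Cfsg.Agent.Helper28.ptChunk (Cfsg.Agent.Helper28.commPt Cfsg.Agent.Helper28.C1689.T t_tau t_ks) 31671 512 19 = true := by decide +kernel

theorem comm_t_20 : Cfsg.Agent.Helper28.ptChunk (Cfsg.Agent.Helper28.commPt Cfsg.Agent.Helper28.C1689.T t_tau t_ks) 31671 512 20 = true := by decide +kernel

theorem comm_t_21 : Cfsg.Agent.Helper28.ptChunk (Cfsg.Agent.Helper28.commPt Cfsg.Agent.Helper28.C1689.T t_tau t_ks) 31671 512 21 = true := by decide +kernel

theorem comm_t_22 : Cfsg.Agent.Helper28.ptChunk (Cfsg.Agent.Helper28.commPt Cfsg.Agent.Helper28.C1689.T t_tau t_ks) 31671 512 22 = true := by decide +kernel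

theorem comm_t_23 : Cfsg.Agent.Helper28.ptChunk (Cfsg.Agent.Helper28.commPt Cfsg.Agent.Helper28.C1689.T t_tau t_ks) 31671 512 23 = true := by decide +kernel

end Cfsg.Agent.Helper28.F23L
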