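import Cfsg.Agent.Helper28.F23L.Data

set_option autoImplicit false

namespace Cfsg.Agent.Helper28.F23L

theorem comm_t_32 : Cfsg.Agent.Helper28.ptChunk (Cfsg.Agent.Helper28.commPt Cfsg.Agent.Helper28.C1689.T t_tau t_ks) 31671 512 32 = true := by decide +kernel

theorem comm_t_33 : Cfsg.Agent.Helper28.ptChunk (Cfsg.Agent.Helper28.commPt Cfsg.Agent.Helper28.C1689.T t_tau t_ks) 31671 512 33 = true := by decide +kernel

theorem comm_t_34 : Cfsg.Agent.Helper28.ptChunk (Cfsg.Agent.Helper28.commPt Cfsg.Agent.Helper28.C1689.T t_tau t_ks) 31671 512 34 = true := by decide +kernel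

theorem comm_t_35 : Cfsg.Agent.Helper28.ptChunk (Cfsg.Agent.Helper28.commPt Cfsg.Agent.Helper28.C1689.T t_tau t_ks) 31671 512 35 = true := by decide +kernel

theorem comm_t_36 : Cfsg.Agent.Helper28.ptChunk (Cfsg.Agent.Helper28.commPt Cfsg.Agent.Helper28.C1689.T t_tau t_ks) 31671 512 36 = true := by decide +kernel

theorem comm_t_37 : Cfsg.Agent.Helper28.ptChunk (Cfsg.Agent.Helper28.commPt Cfsg.Agent.Helper28.C1689.T t_tau t_ks) 31671 512 37 = true := by decide +kernel

theorem comm_t_38 : Cfsg.Agent.Helper28.ptChunk (Cfsg.Agent.Helper28.commPt Cfsg.Agent.Helper28.C1689.T t_tau t_ks) 31671 512 38 = true := by decide +kernel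

theorem comm_t_39 : Cfsg.Agent.Helper28.ptChunk (Cfsg.Agent.Helper28.commPt Cfsg.Agent.Helper28.C1689.T t_tau t_ks) 31671 512 39 = true := by decide +kernel

end Cfsg.Agent.Helper28.F23L
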