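import Cfsg.Agent.Helper28.F23L.Data

set_option autoImplicit false

namespace Cfsg.Agent.Helper28.F23L

theorem lb3_8 : Cfsg.Agent.Helper28.ptChunk (Cfsg.Agent.Helper28.lbPt Cfsg.Agent.Helper28.C1689.T 31671 W3 ov3 op3 otp3 otw3) 21840 256 8 = true := by decide +kernel

theorem lb3_9 : Cfsg.Agent.Helper28.ptChunk (Cfsg.Agent.Helper28.lbPt Cfsg.Agent.Helper28.C1689.T 31671 W3 ov3 op3 otp3 otw3) 21840 256 9 = true := by decide +kernel

theorem lb3_10 : Cfsg.Agent.Helper28.ptChunk (Cfsg.Agent.Helper28.lbPt Cfsg.Agent.Helper28.C1689.T 31671 W3 ov3 op3 otp3 otw3) 21840 256 10 = true := by decide +kernel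

theorem lb3_11 : Cfsg.Agent.Helper28.ptChunk (Cfsg.Agent.Helper28.lbPt Cfsg.Agent.Helper28.C1689.T 31671 W3 ov3 op3 otp3 otw3) 21840 256 11 = true := by decide +kernel

theorem lb3_12 : Cfsg.Agent.Helper28.ptChunk (Cfsg.Agent.Helper28.lbPt Cfsg.Agent.Helper28.C1689.T 31671 W3 ov3 op3 otp3 otw3) 21840 256 12 = true := by decide +kernel

theorem lb3_13 : Cfsg.Agent.Helper28.ptChunk (Cfsg.Agent.Helper28.lbPt Cfsg.Agent.Helper28.C1689.T 31671 W3 ov3 op3 otp3 otw3) 21840 256 13 = true := by decide +kernel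

theorem lb3_14 : Cfsg.Agent.Helper28.ptChunk (Cfsg.Agent.Helper28.lbPt Cfsg.Agent.Helper28.C1689.T 31671 W3 ov3 op3 otp3 otw3) 21840 256 14 = true := by decide +kernel

theorem lb3_15 : Cfsg.Agent.Helper28.ptChunk (Cfsg.Agent.Helper28.lbPt Cfsg.Agent.Helper28.C1689.T 31671 W3 ov3 op3 otp3 otw3) 21840 256 15 = true := by decide +kernel

end Cfsg.Agent.Helper28.F23L
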