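import Cfsg.Agent.Helper28.F23L.Data

set_option autoImplicit false

namespace Cfsg.Agent.Helper28.F23L

theorem lb4_16 : Cfsg.Agent.Helper28.ptChunk (Cfsg.Agent.Helper28.lbPt Cfsg.Agent.Helper28.C1689.T 31671 W4 ov4 op4 otp4 otw4) 7776 256 16 = true := by decide +kernel

theorem lb4_17 : Cfsg.Agent.Helper28.ptChunk (Cfsg.Agent.Helper28.lbPt Cfsg.Agent.Helper28.C1689.T 31671 W4 ov4 op4 otp4 otw4) 7776 256 17 = true := by decide +kernel

theorem lb4_18 : Cfsg.Agent.Helper28.ptChunk (Cfsg.Agent.Helper28.lbPt Cfsg.Agent.Helper28.C1689.T 31671 W4 ov4 op4 otp4 otw4) 7776 256 18 = true := by decide +kernel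

theorem lb4_19 : Cfsg.Agent.Helper28.ptChunk (Cfsg.Agent.Helper28.lbPt Cfsg.Agent.Helper28.C1689.T 31671 W4 ov4 op4 otp4 otw4) 7776 256 19 = true := by decide +kernel

theorem lb4_20 : Cfsg.Agent.Helper28.ptChunk (Cfsg.Agent.Helper28.lbPt Cfsg.Agent.Helper28.C1689.T 31671 W4 ov4 op4 otp4 otw4) 7776 256 20 = true := by decide +kernel

theorem lb4_21 : Cfsg.Agent.Helper28.ptChunk (Cfsg.Agent.Helper28.lbPt Cfsg.Agent.Helper28.C1689.T 31671 W4 ov4 op4 otp4 otw4) 7776 256 21 = true := by decide +kernel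

theorem lb4_22 : Cfsg.Agent.Helper28.ptChunk (Cfsg.Agent.Helper28.lbPt Cfsg.Agent.Helper28.C1689.T 31671 W4 ov4 op4 otp4 otw4) 7776 256 22 = true := by decide +kernel

theorem lb4_23 : Cfsg.Agent.Helper28.ptChunk (Cfsg.Agent.Helper28.lbPt Cfsg.Agent.Helper28.C1689.T 31671 W4 ov4 op4 otp4 otw4) 7776 256 23 = true := by decide +kernel

end Cfsg.Agent.Helper28.F23L
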