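import Cfsg.Agent.Helper28.F23L.Data

set_option autoImplicit false

namespace Cfsg.Agent.Helper28.F23L

theorem lb5_0 : Cfsg.Agent.Helper28.ptChunk (Cfsg.Agent.Helper28.lbPt Cfsg.Agent.Helper28.C1689.T 31671 W5 ov5 op5 otp5 otw5) 27 256 0 = true := by decide +kernel

end Cfsg.Agent.Helper28.F23L
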