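import Cfsg.Agent.Helper28.C1689.Cert
import Cfsg.Agent.Helper28.F23L.Lb2_0
import Cfsg.Agent.Helper28.F23L.Lb2_1
import Cfsg.Agent.Helper28.F23L.Lb2_2
import Cfsg.Agent.Helper28.F23L.Lb2_3
import Cfsg.Agent.Helper28.F23L.Lb2_4
import Cfsg.Agent.Helper28.F23L.Lb2_5
import Cfsg.Agent.Helper28.F23L.Lb2_6
import Cfsg.Agent.Helper28.F23L.Lb2_7
import Cfsg.Agent.Helper28.F23L.Lb2_8
import Cfsg.Agent.Helper28.F23L.Lb2_9
import Cfsg.Agent.Helper28.F23L.Lb2_10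
import Cfsg.Agent.Helper28.F23L.Lb2_11
import Cfsg.Agent.Helper28.F23L.Lb2_12
import Cfsg.Agent.Helper28.F23L.Lb2_13
import Cfsg.Agent.Helper28.F23L.Lb3_0
import Cfsg.Agent.Helper28.F23L.Lb3_1
import Cfsg.Agent.Helper28.F23L.Lb3_2
import Cfsg.Agent.Helper28.F23L.Lb3_3
import Cfsg.Agent.Helper28.F23L.Lb3_4
import Cfsg.Agent.Helper28.F23L.Lb3_5
import Cfsg.Agent.Helper28.F23L.Lb3_6
import Cfsg.Agent.Helper28.F23L.Lb3_7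
import Cfsg.Agent.Helper28.F23L.Lb3_8
import Cfsg.Agent.Helper28.F23L.Lb3_9
import Cfsg.Agent.Helper28.F23L.Lb3_10
import Cfsg.Agent.Helper28.F23L.Lb4_0
import Cfsg.Agent.Helper28.F23L.Lb4_1
import Cfsg.Agent.Helper28.F23L.Lb4_2
import Cfsg.Agent.Helper28.F23L.Lb4_3
import Cfsg.Agent.Helper28.F23L.Lb5_0
import Cfsg.Agent.Helper28.F23L.Col_t_0
import Cfsg.Agent.Helper28.F23L.Col_t_1
import Cfsg.Agent.Helper28.F23L.Col_t_2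
import Cfsg.Agent.Helper28.F23L.Col_t_3
import Cfsg.Agent.Helper28.F23L.Col_t_4
import Cfsg.Agent.Helper28.F23L.Col_t_5
import Cfsg.Agent.Helper28.F23L.Col_t_6
import Cfsg.Agent.Helper28.F23L.Col_t_7
import Cfsg.Agent.Helper28.F23L.Comm_t_0
import Cfsg.Agent.Helper28.F23L.Comm_t_1
import Cfsg.Agent.Helper28.F23L.Comm_t_2
import Cfsg.Agent.Helper28.F23L.Comm_t_3
import Cfsg.Agent.Helper28.F23L.Comm_t_4
import Cfsg.Agent.Helper28.F23L.Comm_t_5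
import Cfsg.Agent.Helper28.F23L.Comm_t_6
import Cfsg.Agent.Helper28.F23L.Comm_t_7
import Cfsg.Agent.Helper28.F23L.Conj_t_0_0
import Cfsg.Agent.Helper28.F23L.Conj_t_0_1
import Cfsg.Agent.Helper28.F23L.Conj_t_0_2
import Cfsg.Agent.Helper28.F23L.Conj_t_0_3
import Cfsg.Agent.Helper28.F23L.Conj_t_0_4
import Cfsg.Agent.Helper28.F23L.Conj_t_0_5
import Cfsg.Agent.Helper28.F23L.Conj_t_0_6
import Cfsg.Agent.Helper28.F23L.Conj_t_0_7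

set_option autoImplicit false

namespace Cfsg.Agent.Helper28.F23L

theorem lb2_all : ∀ t, t < 28160 → Cfsg.Agent.Helper28.lbPt Cfsg.Agent.Helper28.C1689.T 31671 W2 ov2 op2 otp2 otw2 t = true :=
  Cfsg.Agent.Helper28.pts_of_chunks _ 28160 256 110 (by decide) (by decide)
    (Cfsg.Agent.Helper28.allLt_succ _ 109 (Cfsg.Agent.Helper28.allLt_succ _ 108 (Cfsg.Agent.Helper28.allLt_succ _ 107 (Cfsg.Agent.Helper28.allLt_succ _ 106 (Cfsg.Agent.Helper28.allLt_succ _ 105 (Cfsg.Agent.Helper28.allLt_succ _ 104 (Cfsg.Agent.Helper28.allLt_succ _ 103 (Cfsg.Agent.Helper28.allLt_succ _ 102 (Cfsg.Agent.Helper28.allLt_succ _ 101 (Cfsg.Agent.Helper28.allLt_succ _ 100 (Cfsg.Agent.Helper28.allLt_succ _ 99 (Cfsg.Agent.Helper28.allLt_succ _ 98 (Cfsg.Agent.Helper28.allLt_succ _ 97 (Cfsg.Agent.Helper28.allLt_succ _ 96 (Cfsg.Agent.Helper28.allLt_succ _ 95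 (Cfsg.Agent.Helper28.allLt_succ _ 94 (Cfsg.Agent.Helper28.allLt_succ _ 93 (Cfsg.Agent.Helper28.allLt_succ _ 92 (Cfsg.Agent.Helper28.allLt_succ _ 91 (Cfsg.Agent.Helper28.allLt_succ _ 90 (Cfsg.Agent.Helper28.allLt_succ _ 89 (Cfsg.Agent.Helper28.allLt_succ _ 88 (Cfsg.Agent.Helper28.allLt_succ _ 87 (Cfsg.Agent.Helper28.allLt_succ _ 86 (Cfsg.Agent.Helper28.allLt_succ _ 85 (Cfsg.Agent.Helper28.allLt_succ _ 84 (Cfsg.Agent.Helper28.allLt_succ _ 83 (Cfsg.Agent.Helper28.allLt_succ _ 82 (Cfsg.Agent.Helper28.allLt_succ _ 81 (Cfsg.Agent.Helper28.allLt_succ _ 80 (Cfsg.Agent.Helper28.allLt_succ _ 79 (Cfsg.Agent.Helper28.allLt_succ _ 78 (Cfsg.Agent.Helper28.allLt_succ _ 77 (Cfsg.Agent.Helper28.allLt_succ _ 76 (Cfsg.Agent.Helper28.allLt_succ _ 75 (Cfsg.Agent.Helper28.allLt_succ _ 74 (Cfsg.Agent.Helper28.allLt_succ _ 73 (Cfsg.Agent.Helper28.allLt_succ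 _ 72 (Cfsg.Agent.Helper28.allLt_succ _ 71 (Cfsg.Agent.Helper28.allLt_succ _ 70 (Cfsg.Agent.Helper28.allLt_succ _ 69 (Cfsg.Agent.Helper28.allLt_succ _ 68 (Cfsg.Agent.Helper28.allLt_succ _ 67 (Cfsg.Agent.Helper28.allLt_succ _ 66 (Cfsg.Agent.Helper28.allLt_succ _ 65 (Cfsg.Agent.Helper28.allLt_succ _ 64 (Cfsg.Agent.Helper28.allLt_succ _ 63 (Cfsg.Agent.Helper28.allLt_succ _ 62 (Cfsg.Agent.Helper28.allLt_succ _ 61 (Cfsg.Agent.Helper28.allLt_succ _ 60 (Cfsg.Agent.Helper28.allLt_succ _ 59 (Cfsg.Agent.Helper28.allLt_succ _ 58 (Cfsg.Agent.Helper28.allLt_succ _ 57 (Cfsg.Agent.Helper28.allLt_succ _ 56 (Cfsg.Agent.Helper28.allLt_succ _ 55 (Cfsg.Agent.Helper28.allLt_succ _ 54 (Cfsg.Agent.Helper28.allLt_succ _ 53 (Cfsg.Agent.Helper28.allLt_succ _ 52 (Cfsg.Agent.Helper28.allLt_succ _ 51 (Cfsg.Agent.Helper28.allLt_succ _ 50 (Cfsg.Agent.Helper28.allLt_succ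 _ 49 (Cfsg.Agent.Helper28.allLt_succ _ 48 (Cfsg.Agent.Helper28.allLt_succ _ 47 (Cfsg.Agent.Helper28.allLt_succ _ 46 (Cfsg.Agent.Helper28.allLt_succ _ 45 (Cfsg.Agent.Helper28.allLt_succ _ 44 (Cfsg.Agent.Helper28.allLt_succ _ 43 (Cfsg.Agent.Helper28.allLt_succ _ 42 (Cfsg.Agent.Helper28.allLt_succ _ 41 (Cfsg.Agent.Helper28.allLt_succ _ 40 (Cfsg.Agent.Helper28.allLt_succ _ 39 (Cfsg.Agent.Helper28.allLt_succ _ 38 (Cfsg.Agent.Helper28.allLt_succ _ 37 (Cfsg.Agent.Helper28.allLt_succ _ 36 (Cfsg.Agent.Helper28.allLt_succ _ 35 (Cfsg.Agent.Helper28.allLt_succ _ 34 (Cfsg.Agent.Helper28.allLt_succ _ 33 (Cfsg.Agent.Helper28.allLt_succ _ 32 (Cfsg.Agent.Helper28.allLt_succ _ 31 (Cfsg.Agent.Helper28.allLt_succ _ 30 (Cfsg.Agent.Helper28.allLt_succ _ 29 (Cfsg.Agent.Helper28.allLt_succ _ 28 (Cfsg.Agent.Helper28.allLt_succ _ 27 (Cfsg.Agent.Helper28.allLt_succ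 _ 26 (Cfsg.Agent.Helper28.allLt_succ _ 25 (Cfsg.Agent.Helper28.allLt_succ _ 24 (Cfsg.Agent.Helper28.allLt_succ _ 23 (Cfsg.Agent.Helper28.allLt_succ _ 22 (Cfsg.Agent.Helper28.allLt_succ _ 21 (Cfsg.Agent.Helper28.allLt_succ _ 20 (Cfsg.Agent.Helper28.allLt_succ _ 19 (Cfsg.Agent.Helper28.allLt_succ _ 18 (Cfsg.Agent.Helper28.allLt_succ _ 17 (Cfsg.Agent.Helper28.allLt_succ _ 16 (Cfsg.Agent.Helper28.allLt_succ _ 15 (Cfsg.Agent.Helper28.allLt_succ _ 14 (Cfsg.Agent.Helper28.allLt_succ _ 13 (Cfsg.Agent.Helper28.allLt_succ _ 12 (Cfsg.Agent.Helper28.allLt_succ _ 11 (Cfsg.Agent.Helper28.allLt_succ _ 10 (Cfsg.Agent.Helper28.allLt_succ _ 9 (Cfsg.Agent.Helper28.allLt_succ _ 8 (Cfsg.Agent.Helper28.allLt_succ _ 7 (Cfsg.Agent.Helper28.allLt_succ _ 6 (Cfsg.Agent.Helper28.allLt_succ _ 5 (Cfsg.Agent.Helper28.allLt_succ _ 4 (Cfsg.Agent.Helper28.allLt_succ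 _ 3 (Cfsg.Agent.Helper28.allLt_succ _ 2 (Cfsg.Agent.Helper28.allLt_succ _ 1 (Cfsg.Agent.Helper28.allLt_succ _ 0 (Cfsg.Agent.Helper28.allLt_zero _) lb2_0) lb2_1) lb2_2) lb2_3) lb2_4) lb2_5) lb2_6) lb2_7) lb2_8) lb2_9) lb2_10) lb2_11) lb2_12) lb2_13) lb2_14) lb2_15) lb2_16) lb2_17) lb2_18) lb2_19) lb2_20) lb2_21) lb2_22) lb2_23) lb2_24) lb2_25) lb2_26) lb2_27) lb2_28) lb2_29) lb2_30) lb2_31) lb2_32) lb2_33) lb2_34) lb2_35) lb2_36) lb2_37) lb2_38) lb2_39) lb2_40) lb2_41) lb2_42) lb2_43) lb2_44) lb2_45) lb2_46) lb2_47) lb2_48) lb2_49) lb2_50) lb2_51) lb2_52) lb2_53) lb2_54) lb2_55) lb2_56) lb2_57) lb2_58) lb2_59) lb2_60) lb2_61) lb2_62) lb2_63) lb2_64) lb2_65) lb2_66) lb2_67) lb2_68) lb2_69) lb2_70) lb2_71) lb2_72) lb2_73) lb2_74) lb2_75) lb2_76) lb2_77) lb2_78) lb2_79) lb2_80) lb2_81) lb2_82) lb2_83) lb2_84) lb2_85) lb2_86) lb2_87)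 lb2_88) lb2_89) lb2_90) lb2_91) lb2_92) lb2_93) lb2_94) lb2_95) lb2_96) lb2_97) lb2_98) lb2_99) lb2_100) lb2_101) lb2_102) lb2_103) lb2_104) lb2_105) lb2_106) lb2_107) lb2_108) lb2_109)

theorem fix2 : Cfsg.Agent.Helper28.fixChk Cfsg.Agent.Helper28.C1689.T 10 W2 [0] = true := by decide +kernel

theorem lb3_all : ∀ t, t < 21840 → Cfsg.Agent.Helper28.lbPt Cfsg.Agent.Helper28.C1689.T 31671 W3 ov3 op3 otp3 otw3 t = true :=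
  Cfsg.Agent.Helper28.pts_of_chunks _ 21840 256 86 (by decide) (by decide)
    (Cfsg.Agent.Helper28.allLt_succ _ 85 (Cfsg.Agent.Helper28.allLt_succ _ 84 (Cfsg.Agent.Helper28.allLt_succ _ 83 (Cfsg.Agent.Helper28.allLt_succ _ 82 (Cfsg.Agent.Helper28.allLt_succ _ 81 (Cfsg.Agent.Helper28.allLt_succ _ 80 (Cfsg.Agent.Helper28.allLt_succ _ 79 (Cfsg.Agent.Helper28.allLt_succ _ 78 (Cfsg.Agent.Helper28.allLt_succ _ 77 (Cfsg.Agent.Helper28.allLt_succ _ 76 (Cfsg.Agent.Helper28.allLt_succ _ 75 (Cfsg.Agent.Helper28.allLt_succ _ 74 (Cfsg.Agent.Helper28.allLt_succ _ 73 (Cfsg.Agent.Helper28.allLt_succ _ 72 (Cfsg.Agent.Helper28.allLt_succ _ 71 (Cfsg.Agent.Helper28.allLt_succ _ 70 (Cfsg.Agent.Helper28.allLt_succ _ 69 (Cfsg.Agent.Helper28.allLt_succ _ 68 (Cfsg.Agent.Helper28.allLt_succ _ 67 (Cfsg.Agent.Helper28.allLt_succ _ 66 (Cfsg.Agent.Helper28.allLt_succ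 _ 65 (Cfsg.Agent.Helper28.allLt_succ _ 64 (Cfsg.Agent.Helper28.allLt_succ _ 63 (Cfsg.Agent.Helper28.allLt_succ _ 62 (Cfsg.Agent.Helper28.allLt_succ _ 61 (Cfsg.Agent.Helper28.allLt_succ _ 60 (Cfsg.Agent.Helper28.allLt_succ _ 59 (Cfsg.Agent.Helper28.allLt_succ _ 58 (Cfsg.Agent.Helper28.allLt_succ _ 57 (Cfsg.Agent.Helper28.allLt_succ _ 56 (Cfsg.Agent.Helper28.allLt_succ _ 55 (Cfsg.Agent.Helper28.allLt_succ _ 54 (Cfsg.Agent.Helper28.allLt_succ _ 53 (Cfsg.Agent.Helper28.allLt_succ _ 52 (Cfsg.Agent.Helper28.allLt_succ _ 51 (Cfsg.Agent.Helper28.allLt_succ _ 50 (Cfsg.Agent.Helper28.allLt_succ _ 49 (Cfsg.Agent.Helper28.allLt_succ _ 48 (Cfsg.Agent.Helper28.allLt_succ _ 47 (Cfsg.Agent.Helper28.allLt_succ _ 46 (Cfsg.Agent.Helper28.allLt_succ _ 45 (Cfsg.Agent.Helper28.allLt_succ _ 44 (Cfsg.Agent.Helper28.allLt_succ _ 43 (Cfsg.Agent.Helper28.allLt_succ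 _ 42 (Cfsg.Agent.Helper28.allLt_succ _ 41 (Cfsg.Agent.Helper28.allLt_succ _ 40 (Cfsg.Agent.Helper28.allLt_succ _ 39 (Cfsg.Agent.Helper28.allLt_succ _ 38 (Cfsg.Agent.Helper28.allLt_succ _ 37 (Cfsg.Agent.Helper28.allLt_succ _ 36 (Cfsg.Agent.Helper28.allLt_succ _ 35 (Cfsg.Agent.Helper28.allLt_succ _ 34 (Cfsg.Agent.Helper28.allLt_succ _ 33 (Cfsg.Agent.Helper28.allLt_succ _ 32 (Cfsg.Agent.Helper28.allLt_succ _ 31 (Cfsg.Agent.Helper28.allLt_succ _ 30 (Cfsg.Agent.Helper28.allLt_succ _ 29 (Cfsg.Agent.Helper28.allLt_succ _ 28 (Cfsg.Agent.Helper28.allLt_succ _ 27 (Cfsg.Agent.Helper28.allLt_succ _ 26 (Cfsg.Agent.Helper28.allLt_succ _ 25 (Cfsg.Agent.Helper28.allLt_succ _ 24 (Cfsg.Agent.Helper28.allLt_succ _ 23 (Cfsg.Agent.Helper28.allLt_succ _ 22 (Cfsg.Agent.Helper28.allLt_succ _ 21 (Cfsg.Agent.Helper28.allLt_succ _ 20 (Cfsg.Agent.Helper28.allLt_succ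 _ 19 (Cfsg.Agent.Helper28.allLt_succ _ 18 (Cfsg.Agent.Helper28.allLt_succ _ 17 (Cfsg.Agent.Helper28.allLt_succ _ 16 (Cfsg.Agent.Helper28.allLt_succ _ 15 (Cfsg.Agent.Helper28.allLt_succ _ 14 (Cfsg.Agent.Helper28.allLt_succ _ 13 (Cfsg.Agent.Helper28.allLt_succ _ 12 (Cfsg.Agent.Helper28.allLt_succ _ 11 (Cfsg.Agent.Helper28.allLt_succ _ 10 (Cfsg.Agent.Helper28.allLt_succ _ 9 (Cfsg.Agent.Helper28.allLt_succ _ 8 (Cfsg.Agent.Helper28.allLt_succ _ 7 (Cfsg.Agent.Helper28.allLt_succ _ 6 (Cfsg.Agent.Helper28.allLt_succ _ 5 (Cfsg.Agent.Helper28.allLt_succ _ 4 (Cfsg.Agent.Helper28.allLt_succ _ 3 (Cfsg.Agent.Helper28.allLt_succ _ 2 (Cfsg.Agent.Helper28.allLt_succ _ 1 (Cfsg.Agent.Helper28.allLt_succ _ 0 (Cfsg.Agent.Helper28.allLt_zero _) lb3_0) lb3_1) lb3_2) lb3_3) lb3_4) lb3_5) lb3_6) lb3_7) lb3_8) lb3_9) lb3_10) lb3_11) lb3_12) lb3_13) lb3_14)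 lb3_15) lb3_16) lb3_17) lb3_18) lb3_19) lb3_20) lb3_21) lb3_22) lb3_23) lb3_24) lb3_25) lb3_26) lb3_27) lb3_28) lb3_29) lb3_30) lb3_31) lb3_32) lb3_33) lb3_34) lb3_35) lb3_36) lb3_37) lb3_38) lb3_39) lb3_40) lb3_41) lb3_42) lb3_43) lb3_44) lb3_45) lb3_46) lb3_47) lb3_48) lb3_49) lb3_50) lb3_51) lb3_52) lb3_53) lb3_54) lb3_55) lb3_56) lb3_57) lb3_58) lb3_59) lb3_60) lb3_61) lb3_62) lb3_63) lb3_64) lb3_65) lb3_66) lb3_67) lb3_68) lb3_69) lb3_70) lb3_71) lb3_72) lb3_73) lb3_74) lb3_75) lb3_76) lb3_77) lb3_78) lb3_79) lb3_80) lb3_81) lb3_82) lb3_83) lb3_84) lb3_85)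

theorem fix3 : Cfsg.Agent.Helper28.fixChk Cfsg.Agent.Helper28.C1689.T 10 W3 [ov2 0, 0] = true := by decide +kernel

theorem lb4_all : ∀ t, t < 7776 → Cfsg.Agent.Helper28.lbPt Cfsg.Agent.Helper28.C1689.T 31671 W4 ov4 op4 otp4 otw4 t = true :=
  Cfsg.Agent.Helper28.pts_of_chunks _ 7776 256 31 (by decide) (by decide)
    (Cfsg.Agent.Helper28.allLt_succ _ 30 (Cfsg.Agent.Helper28.allLt_succ _ 29 (Cfsg.Agent.Helper28.allLt_succ _ 28 (Cfsg.Agent.Helper28.allLt_succ _ 27 (Cfsg.Agent.Helper28.allLt_succ _ 26 (Cfsg.Agent.Helper28.allLt_succ _ 25 (Cfsg.Agent.Helper28.allLt_succ _ 24 (Cfsg.Agent.Helper28.allLt_succ _ 23 (Cfsg.Agent.Helper28.allLt_succ _ 22 (Cfsg.Agent.Helper28.allLt_succ _ 21 (Cfsg.Agent.Helper28.allLt_succ _ 20 (Cfsg.Agent.Helper28.allLt_succ _ 19 (Cfsg.Agent.Helper28.allLt_succ _ 18 (Cfsg.Agent.Helper28.allLt_succ _ 17 (Cfsg.Agent.Helper28.allLt_succ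 _ 16 (Cfsg.Agent.Helper28.allLt_succ _ 15 (Cfsg.Agent.Helper28.allLt_succ _ 14 (Cfsg.Agent.Helper28.allLt_succ _ 13 (Cfsg.Agent.Helper28.allLt_succ _ 12 (Cfsg.Agent.Helper28.allLt_succ _ 11 (Cfsg.Agent.Helper28.allLt_succ _ 10 (Cfsg.Agent.Helper28.allLt_succ _ 9 (Cfsg.Agent.Helper28.allLt_succ _ 8 (Cfsg.Agent.Helper28.allLt_succ _ 7 (Cfsg.Agent.Helper28.allLt_succ _ 6 (Cfsg.Agent.Helper28.allLt_succ _ 5 (Cfsg.Agent.Helper28.allLt_succ _ 4 (Cfsg.Agent.Helper28.allLt_succ _ 3 (Cfsg.Agent.Helper28.allLt_succ _ 2 (Cfsg.Agent.Helper28.allLt_succ _ 1 (Cfsg.Agent.Helper28.allLt_succ _ 0 (Cfsg.Agent.Helper28.allLt_zero _) lb4_0) lb4_1) lb4_2) lb4_3) lb4_4) lb4_5) lb4_6) lb4_7) lb4_8) lb4_9) lb4_10) lb4_11) lb4_12) lb4_13) lb4_14) lb4_15) lb4_16) lb4_17) lb4_18) lb4_19) lb4_20) lb4_21) lb4_22) lb4_23) lb4_24) lb4_25) lb4_26) lb4_27) lb4_28)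 lb4_29) lb4_30)

theorem fix4 : Cfsg.Agent.Helper28.fixChk Cfsg.Agent.Helper28.C1689.T 10 W4 [ov3 0, ov2 0, 0] = true := by decide +kernel

theorem lb5_all : ∀ t, t < 27 → Cfsg.Agent.Helper28.lbPt Cfsg.Agent.Helper28.C1689.T 31671 W5 ov5 op5 otp5 otw5 t = true :=
  Cfsg.Agent.Helper28.pts_of_chunks _ 27 256 1 (by decide) (by decide)
    (Cfsg.Agent.Helper28.allLt_succ _ 0 (Cfsg.Agent.Helper28.allLt_zero _) lb5_0)

theorem fix5 : Cfsg.Agent.Helper28.fixChk Cfsg.Agent.Helper28.C1689.T 10 W5 [ov4 0, ov3 0, ov2 0, 0] = true := by decide +kernel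

theorem col_t_all : ∀ i, i < 31671 → Cfsg.Agent.Helper28.colPt Cfsg.Agent.Helper28.C1689.T t_w t_tau i = true :=
  Cfsg.Agent.Helper28.pts_of_chunks _ 31671 512 62 (by decide) (by decide)
    (Cfsg.Agent.Helper28.allLt_succ _ 61 (Cfsg.Agent.Helper28.allLt_succ _ 60 (Cfsg.Agent.Helper28.allLt_succ _ 59 (Cfsg.Agent.Helper28.allLt_succ _ 58 (Cfsg.Agent.Helper28.allLt_succ _ 57 (Cfsg.Agent.Helper28.allLt_succ _ 56 (Cfsg.Agent.Helper28.allLt_succ _ 55 (Cfsg.Agent.Helper28.allLt_succ _ 54 (Cfsg.Agent.Helper28.allLt_succ _ 53 (Cfsg.Agent.Helper28.allLt_succ _ 52 (Cfsg.Agent.Helper28.allLt_succ _ 51 (Cfsg.Agent.Helper28.allLt_succ _ 50 (Cfsg.Agent.Helper28.allLt_succ _ 49 (Cfsg.Agent.Helper28.allLt_succ _ 48 (Cfsg.Agent.Helper28.allLt_succ _ 47 (Cfsg.Agent.Helper28.allLt_succ _ 46 (Cfsg.Agent.Helper28.allLt_succ _ 45 (Cfsg.Agent.Helper28.allLt_succ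 _ 44 (Cfsg.Agent.Helper28.allLt_succ _ 43 (Cfsg.Agent.Helper28.allLt_succ _ 42 (Cfsg.Agent.Helper28.allLt_succ _ 41 (Cfsg.Agent.Helper28.allLt_succ _ 40 (Cfsg.Agent.Helper28.allLt_succ _ 39 (Cfsg.Agent.Helper28.allLt_succ _ 38 (Cfsg.Agent.Helper28.allLt_succ _ 37 (Cfsg.Agent.Helper28.allLt_succ _ 36 (Cfsg.Agent.Helper28.allLt_succ _ 35 (Cfsg.Agent.Helper28.allLt_succ _ 34 (Cfsg.Agent.Helper28.allLt_succ _ 33 (Cfsg.Agent.Helper28.allLt_succ _ 32 (Cfsg.Agent.Helper28.allLt_succ _ 31 (Cfsg.Agent.Helper28.allLt_succ _ 30 (Cfsg.Agent.Helper28.allLt_succ _ 29 (Cfsg.Agent.Helper28.allLt_succ _ 28 (Cfsg.Agent.Helper28.allLt_succ _ 27 (Cfsg.Agent.Helper28.allLt_succ _ 26 (Cfsg.Agent.Helper28.allLt_succ _ 25 (Cfsg.Agent.Helper28.allLt_succ _ 24 (Cfsg.Agent.Helper28.allLt_succ _ 23 (Cfsg.Agent.Helper28.allLt_succ _ 22 (Cfsg.Agent.Helper28.allLt_succ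 _ 21 (Cfsg.Agent.Helper28.allLt_succ _ 20 (Cfsg.Agent.Helper28.allLt_succ _ 19 (Cfsg.Agent.Helper28.allLt_succ _ 18 (Cfsg.Agent.Helper28.allLt_succ _ 17 (Cfsg.Agent.Helper28.allLt_succ _ 16 (Cfsg.Agent.Helper28.allLt_succ _ 15 (Cfsg.Agent.Helper28.allLt_succ _ 14 (Cfsg.Agent.Helper28.allLt_succ _ 13 (Cfsg.Agent.Helper28.allLt_succ _ 12 (Cfsg.Agent.Helper28.allLt_succ _ 11 (Cfsg.Agent.Helper28.allLt_succ _ 10 (Cfsg.Agent.Helper28.allLt_succ _ 9 (Cfsg.Agent.Helper28.allLt_succ _ 8 (Cfsg.Agent.Helper28.allLt_succ _ 7 (Cfsg.Agent.Helper28.allLt_succ _ 6 (Cfsg.Agent.Helper28.allLt_succ _ 5 (Cfsg.Agent.Helper28.allLt_succ _ 4 (Cfsg.Agent.Helper28.allLt_succ _ 3 (Cfsg.Agent.Helper28.allLt_succ _ 2 (Cfsg.Agent.Helper28.allLt_succ _ 1 (Cfsg.Agent.Helper28.allLt_succ _ 0 (Cfsg.Agent.Helper28.allLt_zero _) col_t_0) col_t_1) col_t_2) col_t_3)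 col_t_4) col_t_5) col_t_6) col_t_7) col_t_8) col_t_9) col_t_10) col_t_11) col_t_12) col_t_13) col_t_14) col_t_15) col_t_16) col_t_17) col_t_18) col_t_19) col_t_20) col_t_21) col_t_22) col_t_23) col_t_24) col_t_25) col_t_26) col_t_27) col_t_28) col_t_29) col_t_30) col_t_31) col_t_32) col_t_33) col_t_34) col_t_35) col_t_36) col_t_37) col_t_38) col_t_39) col_t_40) col_t_41) col_t_42) col_t_43) col_t_44) col_t_45) col_t_46) col_t_47) col_t_48) col_t_49) col_t_50) col_t_51) col_t_52) col_t_53) col_t_54) col_t_55) col_t_56) col_t_57) col_t_58) col_t_59) col_t_60) col_t_61)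

theorem t_w_let : ∀ a ∈ t_w, a < 10 := by decide +kernel

theorem comm_t_all : ∀ i, i < 31671 → Cfsg.Agent.Helper28.commPt Cfsg.Agent.Helper28.C1689.T t_tau t_ks i = true :=
  Cfsg.Agent.Helper28.pts_of_chunks _ 31671 512 62 (by decide) (by decide)
    (Cfsg.Agent.Helper28.allLt_succ _ 61 (Cfsg.Agent.Helper28.allLt_succ _ 60 (Cfsg.Agent.Helper28.allLt_succ _ 59 (Cfsg.Agent.Helper28.allLt_succ _ 58 (Cfsg.Agent.Helper28.allLt_succ _ 57 (Cfsg.Agent.Helper28.allLt_succ _ 56 (Cfsg.Agent.Helper28.allLt_succ _ 55 (Cfsg.Agent.Helper28.allLt_succ _ 54 (Cfsg.Agent.Helper28.allLt_succ _ 53 (Cfsg.Agent.Helper28.allLt_succ _ 52 (Cfsg.Agent.Helper28.allLt_succ _ 51 (Cfsg.Agent.Helper28.allLt_succ _ 50 (Cfsg.Agent.Helper28.allLt_succ _ 49 (Cfsg.Agent.Helper28.allLt_succ _ 48 (Cfsg.Agent.Helper28.allLt_succ _ 47 (Cfsg.Agent.Helper28.allLt_succ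 _ 46 (Cfsg.Agent.Helper28.allLt_succ _ 45 (Cfsg.Agent.Helper28.allLt_succ _ 44 (Cfsg.Agent.Helper28.allLt_succ _ 43 (Cfsg.Agent.Helper28.allLt_succ _ 42 (Cfsg.Agent.Helper28.allLt_succ _ 41 (Cfsg.Agent.Helper28.allLt_succ _ 40 (Cfsg.Agent.Helper28.allLt_succ _ 39 (Cfsg.Agent.Helper28.allLt_succ _ 38 (Cfsg.Agent.Helper28.allLt_succ _ 37 (Cfsg.Agent.Helper28.allLt_succ _ 36 (Cfsg.Agent.Helper28.allLt_succ _ 35 (Cfsg.Agent.Helper28.allLt_succ _ 34 (Cfsg.Agent.Helper28.allLt_succ _ 33 (Cfsg.Agent.Helper28.allLt_succ _ 32 (Cfsg.Agent.Helper28.allLt_succ _ 31 (Cfsg.Agent.Helper28.allLt_succ _ 30 (Cfsg.Agent.Helper28.allLt_succ _ 29 (Cfsg.Agent.Helper28.allLt_succ _ 28 (Cfsg.Agent.Helper28.allLt_succ _ 27 (Cfsg.Agent.Helper28.allLt_succ _ 26 (Cfsg.Agent.Helper28.allLt_succ _ 25 (Cfsg.Agent.Helper28.allLt_succ _ 24 (Cfsg.Agent.Helper28.allLt_succ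 _ 23 (Cfsg.Agent.Helper28.allLt_succ _ 22 (Cfsg.Agent.Helper28.allLt_succ _ 21 (Cfsg.Agent.Helper28.allLt_succ _ 20 (Cfsg.Agent.Helper28.allLt_succ _ 19 (Cfsg.Agent.Helper28.allLt_succ _ 18 (Cfsg.Agent.Helper28.allLt_succ _ 17 (Cfsg.Agent.Helper28.allLt_succ _ 16 (Cfsg.Agent.Helper28.allLt_succ _ 15 (Cfsg.Agent.Helper28.allLt_succ _ 14 (Cfsg.Agent.Helper28.allLt_succ _ 13 (Cfsg.Agent.Helper28.allLt_succ _ 12 (Cfsg.Agent.Helper28.allLt_succ _ 11 (Cfsg.Agent.Helper28.allLt_succ _ 10 (Cfsg.Agent.Helper28.allLt_succ _ 9 (Cfsg.Agent.Helper28.allLt_succ _ 8 (Cfsg.Agent.Helper28.allLt_succ _ 7 (Cfsg.Agent.Helper28.allLt_succ _ 6 (Cfsg.Agent.Helper28.allLt_succ _ 5 (Cfsg.Agent.Helper28.allLt_succ _ 4 (Cfsg.Agent.Helper28.allLt_succ _ 3 (Cfsg.Agent.Helper28.allLt_succ _ 2 (Cfsg.Agent.Helper28.allLt_succ _ 1 (Cfsg.Agent.Helper28.allLt_succ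 _ 0 (Cfsg.Agent.Helper28.allLt_zero _) comm_t_0) comm_t_1) comm_t_2) comm_t_3) comm_t_4) comm_t_5) comm_t_6) comm_t_7) comm_t_8) comm_t_9) comm_t_10) comm_t_11) comm_t_12) comm_t_13) comm_t_14) comm_t_15) comm_t_16) comm_t_17) comm_t_18) comm_t_19) comm_t_20) comm_t_21) comm_t_22) comm_t_23) comm_t_24) comm_t_25) comm_t_26) comm_t_27) comm_t_28) comm_t_29) comm_t_30) comm_t_31) comm_t_32) comm_t_33) comm_t_34) comm_t_35) comm_t_36) comm_t_37) comm_t_38) comm_t_39) comm_t_40) comm_t_41) comm_t_42) comm_t_43) comm_t_44) comm_t_45) comm_t_46) comm_t_47) comm_t_48) comm_t_49) comm_t_50) comm_t_51) comm_t_52) comm_t_53) comm_t_54) comm_t_55) comm_t_56) comm_t_57) comm_t_58) comm_t_59) comm_t_60) comm_t_61)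

theorem conj_t_0_all : ∀ i, i < 31671 → Cfsg.Agent.Helper28.conjPt Cfsg.Agent.Helper28.C1689.T t_tau t_u0 t_u0.reverse 7 i = true :=
  Cfsg.Agent.Helper28.pts_of_chunks _ 31671 512 62 (by decide) (by decide)
    (Cfsg.Agent.Helper28.allLt_succ _ 61 (Cfsg.Agent.Helper28.allLt_succ _ 60 (Cfsg.Agent.Helper28.allLt_succ _ 59 (Cfsg.Agent.Helper28.allLt_succ _ 58 (Cfsg.Agent.Helper28.allLt_succ _ 57 (Cfsg.Agent.Helper28.allLt_succ _ 56 (Cfsg.Agent.Helper28.allLt_succ _ 55 (Cfsg.Agent.Helper28.allLt_succ _ 54 (Cfsg.Agent.Helper28.allLt_succ _ 53 (Cfsg.Agent.Helper28.allLt_succ _ 52 (Cfsg.Agent.Helper28.allLt_succ _ 51 (Cfsg.Agent.Helper28.allLt_succ _ 50 (Cfsg.Agent.Helper28.allLt_succ _ 49 (Cfsg.Agent.Helper28.allLt_succ _ 48 (Cfsg.Agent.Helper28.allLt_succ _ 47 (Cfsg.Agent.Helper28.allLt_succ _ 46 (Cfsg.Agent.Helper28.allLt_succ _ 45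 (Cfsg.Agent.Helper28.allLt_succ _ 44 (Cfsg.Agent.Helper28.allLt_succ _ 43 (Cfsg.Agent.Helper28.allLt_succ _ 42 (Cfsg.Agent.Helper28.allLt_succ _ 41 (Cfsg.Agent.Helper28.allLt_succ _ 40 (Cfsg.Agent.Helper28.allLt_succ _ 39 (Cfsg.Agent.Helper28.allLt_succ _ 38 (Cfsg.Agent.Helper28.allLt_succ _ 37 (Cfsg.Agent.Helper28.allLt_succ _ 36 (Cfsg.Agent.Helper28.allLt_succ _ 35 (Cfsg.Agent.Helper28.allLt_succ _ 34 (Cfsg.Agent.Helper28.allLt_succ _ 33 (Cfsg.Agent.Helper28.allLt_succ _ 32 (Cfsg.Agent.Helper28.allLt_succ _ 31 (Cfsg.Agent.Helper28.allLt_succ _ 30 (Cfsg.Agent.Helper28.allLt_succ _ 29 (Cfsg.Agent.Helper28.allLt_succ _ 28 (Cfsg.Agent.Helper28.allLt_succ _ 27 (Cfsg.Agent.Helper28.allLt_succ _ 26 (Cfsg.Agent.Helper28.allLt_succ _ 25 (Cfsg.Agent.Helper28.allLt_succ _ 24 (Cfsg.Agent.Helper28.allLt_succ _ 23 (Cfsg.Agent.Helper28.allLt_succ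 _ 22 (Cfsg.Agent.Helper28.allLt_succ _ 21 (Cfsg.Agent.Helper28.allLt_succ _ 20 (Cfsg.Agent.Helper28.allLt_succ _ 19 (Cfsg.Agent.Helper28.allLt_succ _ 18 (Cfsg.Agent.Helper28.allLt_succ _ 17 (Cfsg.Agent.Helper28.allLt_succ _ 16 (Cfsg.Agent.Helper28.allLt_succ _ 15 (Cfsg.Agent.Helper28.allLt_succ _ 14 (Cfsg.Agent.Helper28.allLt_succ _ 13 (Cfsg.Agent.Helper28.allLt_succ _ 12 (Cfsg.Agent.Helper28.allLt_succ _ 11 (Cfsg.Agent.Helper28.allLt_succ _ 10 (Cfsg.Agent.Helper28.allLt_succ _ 9 (Cfsg.Agent.Helper28.allLt_succ _ 8 (Cfsg.Agent.Helper28.allLt_succ _ 7 (Cfsg.Agent.Helper28.allLt_succ _ 6 (Cfsg.Agent.Helper28.allLt_succ _ 5 (Cfsg.Agent.Helper28.allLt_succ _ 4 (Cfsg.Agent.Helper28.allLt_succ _ 3 (Cfsg.Agent.Helper28.allLt_succ _ 2 (Cfsg.Agent.Helper28.allLt_succ _ 1 (Cfsg.Agent.Helper28.allLt_succ _ 0 (Cfsg.Agent.Helper28.allLt_zero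 _) conj_t_0_0) conj_t_0_1) conj_t_0_2) conj_t_0_3) conj_t_0_4) conj_t_0_5) conj_t_0_6) conj_t_0_7) conj_t_0_8) conj_t_0_9) conj_t_0_10) conj_t_0_11) conj_t_0_12) conj_t_0_13) conj_t_0_14) conj_t_0_15) conj_t_0_16) conj_t_0_17) conj_t_0_18) conj_t_0_19) conj_t_0_20) conj_t_0_21) conj_t_0_22) conj_t_0_23) conj_t_0_24) conj_t_0_25) conj_t_0_26) conj_t_0_27) conj_t_0_28) conj_t_0_29) conj_t_0_30) conj_t_0_31) conj_t_0_32) conj_t_0_33) conj_t_0_34) conj_t_0_35) conj_t_0_36) conj_t_0_37) conj_t_0_38) conj_t_0_39) conj_t_0_40) conj_t_0_41) conj_t_0_42) conj_t_0_43) conj_t_0_44) conj_t_0_45) conj_t_0_46) conj_t_0_47) conj_t_0_48) conj_t_0_49) conj_t_0_50) conj_t_0_51) conj_t_0_52) conj_t_0_53) conj_t_0_54) conj_t_0_55) conj_t_0_56) conj_t_0_57) conj_t_0_58) conj_t_0_59) conj_t_0_60) conj_t_0_61)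

theorem t_u0_let : ∀ a ∈ t_u0, a < 10 := by decide +kernel

/-- the stabiliser chain bounds the order from below -/
theorem lb_chain [Finite Cfsg.Spor.Fi23] :
    31671 * 28160 * 21840 * 7776 * 27 * Nat.card (Cfsg.Agent.Helper28.fixSub Cfsg.Agent.Helper28.C1689.cert.perm [ov5 0, ov4 0, ov3 0, ov2 0, 0]) ≤ Nat.card Cfsg.Spor.Fi23 :=
  Cfsg.Agent.Helper28.chain_mul (Cfsg.Agent.Helper28.chain_mul (Cfsg.Agent.Helper28.chain_mul (Cfsg.Agent.Helper28.chain_mul (Cfsg.Agent.Helper28.C1689.cert.lb_top) (Cfsg.Agent.Helper28.C1689.cert.lb_level [0] W2 28160 ov2 op2 otp2 otw2 fix2 lb2_all)) (Cfsg.Agent.Helper28.C1689.cert.lb_level [ov2 0, 0] W3 21840 ov3 op3 otp3 otw3 fix3 lb3_all)) (Cfsg.Agent.Helper28.C1689.cert.lb_level [ov3 0, ov2 0, 0] W4 7776 ov4 op4 otp4 otw4 fix4 lb4_all)) (Cfsg.Agent.Helper28.C1689.cert.lb_level [ov4 0, ov3 0, ov2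 0, 0] W5 27 ov5 op5 otp5 otw5 fix5 lb5_all)

end Cfsg.Agent.Helper28.F23L
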